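import Groth.Agent.S6658
import Groth.Agent.EtSh.Flasque
import Groth.Agent.EtSh.Gluing
import Groth.Agent.CompDerived.Basic
import Groth.Agent.GrothSS.Inputs

/-!
# Excision for étale local cohomology
-/

noncomputable section

set_option autoImplicit false
set_option backward.isDefEq.respectTransparency.types false

universe u

open CategoryTheory CategoryTheory.Limits AlgebraicGeometry Opposite

namespace Groth.Agent.EtExcision

open EtSh

theorem isZero_rightDerived_of_exact {A B : Type*} [Category A] [Abelian A] [HasInjectiveResolutions A]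
    [Category B] [Abelian B] (F : A ⥤ B) [F.Additive] [PreservesFiniteLimits F] [PreservesFiniteColimits F] :
    ∀ (k : ℕ) (X : A), IsZero ((F.rightDerived (k + 1)).obj X) := by
  intro k
  induction k with
  | zero =>
    intro X
    have hS := CompDerived.pres_shortExact X
    obtain ⟨e⟩ := CompDerived.nonempty_cokernelIso F hS (CompDerived.pres_acyclic F X)
    have : Epi (F.map (CompDerived.pres X).g) := (hS.map_of_exact F).epi_g
    exact (isZero_cokernel_of_epi _).of_iso e.symm
  | succ k ih =>
    intro X
    obtain ⟨e⟩ := CompDerived.nonempty_shiftIso F (CompDerived.pres_shortExact X) (CompDerived.pres_acyclic F X) k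
    exact (ih _).of_iso e.symm

section One

variable {X U : Scheme.{u}} (j : U ⟶ X)

/-- the inclusion of sections with support -/
def gι (F : EtCoh.Ab X) : (EtDual.gammaSupp j).obj F ⟶ F.obj.obj (op (EtCoh.top X)) :=
  (kernel.ι (EtDual.unitApp j F)).hom.app (op (EtCoh.top X))

theorem gι_naturality {F G : EtCoh.Ab X} (f : F ⟶ G) :
    (EtDual.gammaSupp j).map f ≫ gι j G = gι j F ≫ f.hom.app (op (EtCoh.top X)) :=
  congrArg (fun k => k.hom.app (op (EtCoh.top X))) (S6658.secSupp_map_ι j f)

theorem gι_injective (F : EtCoh.Ab X) : Function.Injective (gι j F) :=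
  S14452.injective_app_of_mono (kernel.ι (EtDual.unitApp j F)) inferInstance _

theorem unit_gι (F : EtCoh.Ab X) (a : (EtDual.gammaSupp j).obj F) :
    (EtDual.unitApp j F).hom.app (op (EtCoh.top X)) (gι j F a) = 0 := by
  have h := congrArg (fun k => k.hom.app (op (EtCoh.top X))) (kernel.condition (EtDual.unitApp j F))
  exact ConcreteCategory.congr_hom h a

theorem exists_gι (F : EtCoh.Ab X) (s : EtCoh.sect F (EtCoh.top X))
    (hs : (EtDual.unitApp j F).hom.app (op (EtCoh.top X)) s = 0) :
    ∃ a, gι j F a = s := by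
  haveI : PreservesLimitsOfSize.{0, 0} (EtCore.gsec X) := (EtCore.constAdj X).rightAdjoint_preservesLimits
  haveI : PreservesFiniteLimits (EtCore.gsec X) := PreservesLimitsOfSize.preservesFiniteLimits.{0, 0} _
  let T := (ShortComplex.mk _ _ (kernel.condition (EtDual.unitApp j F)))
  have hex : (T.map (EtCore.gsec X)).Exact :=
    ShortComplex.exact_of_f_is_kernel _ (KernelFork.mapIsLimit _ (kernelIsKernel (EtDual.unitApp j F)) (EtCore.gsec X))
  exact (ShortComplex.ab_exact_iff _).1 hex s hs

variable [IsOpenImmersion j] [Etale j] [EtShriek.JCont j]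

/-- `U` as an object over `X` -/
abbrev objOf : X.Etale := (EtShriek.compEtale j).obj (EtCoh.top U)

theorem unit_eq_zero_iff (F : EtCoh.Ab X) (s : EtCoh.sect F (EtCoh.top X)) :
    (EtDual.unitApp j F).hom.app (op (EtCoh.top X)) s = 0 ↔
      F.obj.map ((EtCore.topIsTerminal X).from (objOf j)).op s = 0 := by
  let i := (EtCore.bcTopIso j)
  have h4 : (restrPushAdj j).unit.app F =
      (EtCoh.pullPushAdj j).unit.app F ≫ (EtCoh.push j).map ((pullRestrIso j).hom.app F) :=
    (Adjunction.unit_leftAdjointUniq_hom_app (EtCoh.pullPushAdj j) (restrPushAdj j) F).symm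
  have h5 : ∀ x, ((restrPushAdj j).unit.app F).hom.app (op (EtCoh.top X)) x = 0 ↔
      (EtDual.unitApp j F).hom.app (op (EtCoh.top X)) x = 0 := fun x => by
    rw [ConcreteCategory.congr_hom (congrArg (fun k : F ⟶ _ => k.hom.app (op (EtCoh.top X))) h4) x]
    exact map_eq_zero_iff (((EtCoh.push j).map ((pullRestrIso j).hom.app F)).hom.app (op (EtCoh.top X))).hom
      (S14452.injective_app_of_mono _ inferInstance _)
  rw [← h5]
  have e : ((EtCore.topIsTerminal X).from (objOf j)) =
      (EtShriek.compEtale j).map i.inv ≫ (compBCAdj j).counit.app (EtCoh.top X) :=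
    (EtCore.topIsTerminal X).hom_ext _ _
  show F.obj.map ((compBCAdj j).counit.app (EtCoh.top X)).op s = 0 ↔ _
  rw [e, op_comp, F.obj.map_comp, ConcreteCategory.comp_apply]
  refine (map_eq_zero_iff (F.obj.map ((EtShriek.compEtale j).map i.inv).op).hom ?_).symm
  intro a b hab
  have h := congrArg (F.obj.map ((EtShriek.compEtale j).map i.hom).op) hab
  simpa only [← ConcreteCategory.comp_apply, ← F.obj.map_comp, ← op_comp, ← Functor.map_comp, Iso.hom_inv_id,
    CategoryTheory.Functor.map_id, op_id, ConcreteCategory.id_apply] using h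

end One

variable {X X' U U' : Scheme.{u}} (f : X' ⟶ X) [Etale f] [EtShriek.JCont f]
  (j : U ⟶ X) [IsOpenImmersion j] [Etale j] [EtShriek.JCont j]
  (j' : U' ⟶ X') [IsOpenImmersion j'] [Etale j'] [EtShriek.JCont j']
  (hU' : Set.range j'.base = f.base ⁻¹' Set.range j.base)

/-- `X'` as an object over `X` -/
abbrev objW : X.Etale := (EtShriek.compEtale f).obj (EtCoh.top X')

/-- `U'` as an object over `X` -/
abbrev objU' : X.Etale := (EtShriek.compEtale f).obj (objOf j')

/-- restriction from `X` to `X'` -/
abbrev res (F : EtCoh.Ab X) : F.obj.obj (op (EtCoh.top X)) ⟶ ((EtShriek.restrAlong f).obj F).obj.obj (op (EtCoh.top X')) :=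
  F.obj.map ((EtCore.topIsTerminal X).from (objW f)).op

include hU' in
theorem exists_U'_to_U : Nonempty (objU' f j' ⟶ objOf j) := by
  have hr : Set.range ((objU' f j').hom).base ⊆ Set.range (objOf j).hom.base := by
    rintro _ ⟨x, rfl⟩
    have h1 : j'.base x ∈ Set.range j'.base := ⟨x, rfl⟩
    rw [hU'] at h1
    obtain ⟨y, hy⟩ := h1
    exact ⟨y, hy⟩
  haveI : IsOpenImmersion (objOf j).hom := inferInstanceAs (IsOpenImmersion (𝟙 U ≫ j))
  exact ⟨MorphismProperty.Over.homMk (IsOpenImmersion.lift (objOf j).hom (objU' f j').hom hr) (IsOpenImmersion.lift_fac _ _ _)⟩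

variable (hZ : Set.BijOn f.base (Set.range j'.base)ᶜ (Set.range j.base)ᶜ)
  (hκ : ∀ x' : ↥X', x' ∉ Set.range j'.base → Function.Surjective (f.residueFieldMap x'))

include hκ in
theorem eq_of_residue {K : Type u} [Field K] (a b : Spec (CommRingCat.of K) ⟶ X') (h : a ≫ f = b ≫ f)
    (x' : X') (hx' : x' ∉ Set.range j'.base) (ha : a.base default = x') (hb : b.base default = x') : a = b := by
  obtain ⟨⟨xa, φ⟩, rfl⟩ := (Scheme.SpecToEquivOfField K X').symm.surjective a
  obtain ⟨⟨xb, ψ⟩, rfl⟩ := (Scheme.SpecToEquivOfField K X').symm.surjective b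
  have ea : xa = x' := by simpa [Scheme.SpecToEquivOfField] using ha
  have eb : xb = x' := by simpa [Scheme.SpecToEquivOfField] using hb
  subst ea eb
  haveI : Epi (f.residueFieldMap xb) := ConcreteCategory.epi_of_surjective _ (hκ xb hx')
  have key : ∀ χ : X'.residueField xb ⟶ CommRingCat.of K, (Scheme.SpecToEquivOfField K X').symm ⟨xb, χ⟩ ≫ f =
      (Scheme.SpecToEquivOfField K X).symm ⟨f.base xb, f.residueFieldMap xb ≫ χ⟩ := fun χ => by
    show (Spec.map χ ≫ X'.fromSpecResidueField xb) ≫ f = Spec.map (f.residueFieldMap xb ≫ χ) ≫ X.fromSpecResidueField _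
    rw [Spec.map_comp, Category.assoc, Category.assoc]
    exact congrArg (Spec.map χ ≫ ·) (f.SpecMap_residueFieldMap_fromSpecResidueField xb).symm
  rw [key, key] at h
  have h2 := (Scheme.SpecToEquivOfField K X).symm.injective h
  rw [(cancel_epi (f.residueFieldMap xb)).1 (eq_of_heq (Sigma.mk.inj_iff.1 h2).2)]

include hU' hZ hκ in
theorem glue (F : EtCoh.Ab X) (t : EtCoh.sect F (objW f))
    (ht : F.obj.map ((EtShriek.compEtale f).map ((EtCore.topIsTerminal X').from (objOf j'))).op t = 0) :
    ∃ s : EtCoh.sect F (EtCoh.top X), F.obj.map ((EtCore.topIsTerminal X).from (objW f)).op s = t ∧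
      F.obj.map ((EtCore.topIsTerminal X).from (objOf j)).op s = 0 := by
  let P : Bool → X.Etale := fun b => if b then objW f else objOf j
  let g : ∀ b, P b ⟶ EtCoh.top X := fun b => (EtCore.topIsTerminal X).from (P b)
  haveI hio : IsOpenImmersion (objOf j').hom := inferInstanceAs (IsOpenImmersion (𝟙 U' ≫ j'))
  have fac : ∀ {Z : X.Etale} (p : Z ⟶ objW f), (∀ z, p.left.base z ∈ Set.range j'.base) → F.obj.map p.op t = 0 := by
    intro Z p hp
    let p' : Z.left ⟶ X' := p.left
    have hr : Set.range p'.base ⊆ Set.range j'.base := by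
      rintro _ ⟨z, rfl⟩
      exact hp z
    let lf : Z.left ⟶ U' := IsOpenImmersion.lift j' p' hr
    let l : Z ⟶ objU' f j' := MorphismProperty.Over.homMk lf (by
      show lf ≫ (𝟙 U' ≫ j') ≫ f = Z.hom
      rw [Category.id_comp, IsOpenImmersion.lift_fac_assoc]
      exact (congrArg (p' ≫ ·) (Category.id_comp f).symm).trans (MorphismProperty.Over.w p))
    have e1 : (((EtCore.topIsTerminal X').from (objOf j')).left : U' ⟶ X') = j' :=
      (Category.comp_id _).symm.trans ((MorphismProperty.Over.w ((EtCore.topIsTerminal X').from (objOf j'))).trans (Category.id_comp j'))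
    have e : p = l ≫ (EtShriek.compEtale f).map ((EtCore.topIsTerminal X').from (objOf j')) := by
      refine MorphismProperty.Over.Hom.ext ?_
      refine Eq.trans ?_ (congrArg (fun k : U' ⟶ X' => lf ≫ k) e1).symm
      exact (IsOpenImmersion.lift_fac j' p' hr).symm
    rw [e, op_comp, F.obj.map_comp, ConcreteCategory.comp_apply]
    exact (congrArg (F.obj.map l.op) ht).trans (map_zero _)
  let a : ∀ b, EtCoh.sect F (P b) := Bool.rec (motive := fun b => EtCoh.sect F (P b)) 0 t
  have hcov : Sieve.generate (Presieve.ofArrows P g) ∈ X.smallEtaleTopology (EtCoh.top X) :=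
    (mem_topology_iff _).2 fun x => by
      by_cases hx : x ∈ Set.range j.base
      · obtain ⟨y, hy⟩ := hx
        exact ⟨_, g false, y, ⟨_, 𝟙 _, g false, Presieve.ofArrows.mk false, Category.id_comp _⟩,
          (congrArg (fun k : U ⟶ X => k.base y) ((Category.comp_id _).symm.trans ((MorphismProperty.Over.w (g false)).trans (Category.id_comp j)))).trans hy⟩
      · obtain ⟨y, -, hy⟩ := hZ.surjOn hx
        exact ⟨_, g true, y, ⟨_, 𝟙 _, g true, Presieve.ofArrows.mk true, Category.id_comp _⟩,
          (congrArg (fun k : X' ⟶ X => k.base y) ((Category.comp_id _).symm.trans ((MorphismProperty.Over.w (g true)).trans (Category.id_comp f)))).trans hy⟩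
  have hsh : Presieve.IsSheafFor (F.obj ⋙ forget AddCommGrpCat.{u + 1}) (Presieve.ofArrows P g) :=
    (Presieve.isSheafFor_iff_generate _).2 (((isSheaf_iff_isSheaf_of_type _ _).1
      ((sheafCompose _ (forget AddCommGrpCat.{u + 1})).obj F).property) _ hcov)
  have hWU : ∀ {Z : X.Etale} (p : Z ⟶ objW f) (q : Z ⟶ objOf j), F.obj.map p.op t = 0 := by
    intro Z p q
    refine fac p fun z => ?_
    rw [hU']
    exact ⟨q.left.base z, congrArg (fun k : Z.left ⟶ X => k.base z)
      ((congrArg (q.left ≫ ·) (Category.id_comp j).symm).trans ((MorphismProperty.Over.w q).trans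
        ((MorphismProperty.Over.w p).symm.trans (congrArg (p.left ≫ ·) (Category.id_comp f)))))⟩
  have hWW : ∀ {Z : X.Etale} (p q : Z ⟶ objW f), F.obj.map p.op t = F.obj.map q.op t := by
    intro Z p q
    have hpq : p.left ≫ f = q.left ≫ f := (congrArg (p.left ≫ ·) (Category.id_comp f).symm).trans
      ((MorphismProperty.Over.w p).trans ((MorphismProperty.Over.w q).symm.trans (congrArg (q.left ≫ ·) (Category.id_comp f))))
    refine sect_ext F fun z => ?_
    have hz : f.base (p.left.base z) = f.base (q.left.base z) := congrArg (fun k : Z.left ⟶ X => k.base z) hpq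
    by_cases hp : p.left.base z ∈ Set.range j'.base
    · have hq : q.left.base z ∈ Set.range j'.base := by
        have h := (Set.ext_iff.1 hU' (p.left.base z)).1 hp
        refine (Set.ext_iff.1 hU' (q.left.base z)).2 ?_
        rw [Set.mem_preimage] at h ⊢
        exact hz ▸ h
      let O : Z.left.Opens := ⟨p.left.base ⁻¹' Set.range j'.base ∩ q.left.base ⁻¹' Set.range j'.base,
        (j'.isOpenEmbedding.isOpen_range.preimage p.left.continuous).inter
          (j'.isOpenEmbedding.isOpen_range.preimage q.left.continuous)⟩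
      refine ⟨_, pieceIncl Z O, (⟨z, hp, hq⟩ : O), rfl, ?_⟩
      rw [← ConcreteCategory.comp_apply, ← ConcreteCategory.comp_apply, ← F.obj.map_comp, ← F.obj.map_comp,
        ← op_comp, ← op_comp, fac (pieceIncl Z O ≫ p) (fun (w : O) => w.2.1), fac (pieceIncl Z O ≫ q) (fun (w : O) => w.2.2)]
    · have hq : q.left.base z ∉ Set.range j'.base := fun h0 => by
        have h := (Set.ext_iff.1 hU' (q.left.base z)).1 h0
        refine hp ((Set.ext_iff.1 hU' (p.left.base z)).2 ?_)
        rw [Set.mem_preimage] at h ⊢
        exact hz.symm ▸ h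
      have hpz : q.left.base z = p.left.base z := hZ.injOn hq hp hz.symm
      let l : Z.left ⟶ pullback f f := pullback.lift p.left q.left hpq
      let ξ := Z.left.fromSpecResidueField z
      have hξ : ξ.base default = z := Scheme.fromSpecResidueField_apply _ _
      have hab : ξ ≫ p.left = ξ ≫ q.left := eq_of_residue f j' hκ (ξ ≫ p.left) (ξ ≫ q.left)
        ((Category.assoc _ _ _).trans ((congrArg (ξ ≫ ·) hpq).trans (Category.assoc _ _ _).symm))
        (p.left.base z) hp (congrArg p.left.base hξ) ((congrArg q.left.base hξ).trans hpz)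
      have hl : ξ ≫ l = (ξ ≫ p.left) ≫ pullback.diagonal f := by
        refine pullback.hom_ext ?_ ?_
        · simp only [Category.assoc, l, pullback.lift_fst, pullback.diagonal_fst]
          exact congrArg (ξ ≫ ·) ((Category.comp_id _).symm.trans (congrArg (p.left ≫ ·) (pullback.diagonal_fst f).symm))
        · simp only [Category.assoc, l, pullback.lift_snd, pullback.diagonal_snd]
          exact hab.symm.trans (congrArg (ξ ≫ ·) ((Category.comp_id _).symm.trans (congrArg (p.left ≫ ·) (pullback.diagonal_snd f).symm)))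
      let O : Z.left.Opens := ⟨l.base ⁻¹' Set.range (pullback.diagonal f).base,
        (pullback.diagonal f).isOpenEmbedding.isOpen_range.preimage l.continuous⟩
      have hzO : z ∈ O := ⟨(ξ ≫ p.left).base default,
        ((congrArg (fun k : _ ⟶ pullback f f => k.base default) hl).symm.trans (congrArg l.base hξ))⟩
      refine ⟨_, pieceIncl Z O, (⟨z, hzO⟩ : O), rfl, ?_⟩
      have e : pieceIncl Z O ≫ p = pieceIncl Z O ≫ q := by
        refine MorphismProperty.Over.Hom.ext ?_
        have hr : Set.range (O.ι ≫ l).base ⊆ Set.range (pullback.diagonal f).base := by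
          rintro _ ⟨w, rfl⟩
          exact w.2
        have hk := IsOpenImmersion.lift_fac (pullback.diagonal f) (O.ι ≫ l) hr
        have h1 := congrArg (· ≫ pullback.fst f f) hk
        have h2 := congrArg (· ≫ pullback.snd f f) hk
        simp only [Category.assoc, l, pullback.lift_fst, pullback.lift_snd, pullback.diagonal_fst,
          pullback.diagonal_snd, Category.comp_id] at h1 h2
        exact h1.symm.trans h2
      rw [← ConcreteCategory.comp_apply, ← ConcreteCategory.comp_apply, ← F.obj.map_comp, ← F.obj.map_comp,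
        ← op_comp, ← op_comp, e]
  obtain ⟨s, hs, -⟩ := (Presieve.isSheafFor_arrows_iff _ _).1 hsh a fun b b' Z p q _ => by
    cases b <;> cases b'
    · exact (map_zero (F.obj.map p.op).hom).trans (map_zero (F.obj.map q.op).hom).symm
    · exact (map_zero (F.obj.map p.op).hom).trans (hWU q p).symm
    · exact (hWU p q).trans (map_zero (F.obj.map q.op).hom).symm
    · exact hWW p q
  exact ⟨s, hs true, hs false⟩

include hU' hZ hκ in
/-- sections with support only depend on an étale neighbourhood of the support -/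
theorem nonempty_gammaSupp_iso :
    Nonempty (EtDual.gammaSupp j ≅ EtShriek.restrAlong f ⋙ EtDual.gammaSupp j') := by
  obtain ⟨u'⟩ := exists_U'_to_U f j j' hU'
  have hφ : ∀ (F : EtCoh.Ab X) (a : (EtDual.gammaSupp j).obj F), ∃ b : (EtDual.gammaSupp j').obj ((EtShriek.restrAlong f).obj F),
      gι j' ((EtShriek.restrAlong f).obj F) b = res f F (gι j F a) := by
    intro F a
    refine exists_gι j' _ _ ((unit_eq_zero_iff j' _ _).2 ?_)
    show F.obj.map ((EtShriek.compEtale f).map ((EtCore.topIsTerminal X').from (objOf j'))).op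
      (F.obj.map ((EtCore.topIsTerminal X).from (objW f)).op (gι j F a)) = 0
    have h0 := (unit_eq_zero_iff j F _).1 (unit_gι j F a)
    rw [← ConcreteCategory.comp_apply, ← F.obj.map_comp, ← op_comp,
      (EtCore.topIsTerminal X).hom_ext ((EtShriek.compEtale f).map ((EtCore.topIsTerminal X').from (objOf j')) ≫
        (EtCore.topIsTerminal X).from (objW f)) (u' ≫ (EtCore.topIsTerminal X).from (objOf j)),
      op_comp, F.obj.map_comp, ConcreteCategory.comp_apply]
    exact (congrArg (F.obj.map u'.op) h0).trans (map_zero _)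
  choose φ hφ' using hφ
  let Φ : ∀ F, (EtDual.gammaSupp j).obj F ⟶ (EtShriek.restrAlong f ⋙ EtDual.gammaSupp j').obj F := fun F =>
    AddCommGrpCat.ofHom (AddMonoidHom.mk' (φ F) fun a b => gι_injective j' _ (by
      refine (hφ' F _).trans (Eq.trans ?_ (map_add (gι j' ((EtShriek.restrAlong f).obj F)).hom _ _).symm)
      refine (congrArg (res f F) (map_add (gι j F).hom a b)).trans ((map_add (res f F).hom _ _).trans ?_)
      exact congrArg₂ (· + ·) (hφ' F a).symm (hφ' F b).symm))
  have hnat : ∀ {F G : EtCoh.Ab X} (k : F ⟶ G), (EtDual.gammaSupp j).map k ≫ Φ G =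
      Φ F ≫ (EtShriek.restrAlong f ⋙ EtDual.gammaSupp j').map k := fun {F G} k => AddCommGrpCat.ext fun a => by
    refine gι_injective j' _ ?_
    refine (hφ' G _).trans ?_
    refine (congrArg (res f G) (ConcreteCategory.congr_hom (gι_naturality j k) a)).trans ?_
    refine Eq.trans ?_ (ConcreteCategory.congr_hom (gι_naturality j' ((EtShriek.restrAlong f).map k)) (φ F a)).symm
    refine Eq.trans ?_ (congrArg (((EtShriek.restrAlong f).map k).hom.app (op (EtCoh.top X'))) (hφ' F a)).symm
    exact (NatTrans.naturality_apply k.hom _ _).symm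
  have hbij : ∀ F, Function.Bijective (φ F) := by
    intro F
    constructor
    · intro a b hab
      refine gι_injective j F (sect_ext F fun x => ?_)
      have h1 := congrArg (gι j' ((EtShriek.restrAlong f).obj F)) hab
      rw [hφ', hφ'] at h1
      by_cases hx : x ∈ Set.range j.base
      · obtain ⟨y, hy⟩ := hx
        refine ⟨_, (EtCore.topIsTerminal X).from (objOf j), y, (congrArg (fun k : U ⟶ X => k.base y)
          ((Category.comp_id _).symm.trans ((MorphismProperty.Over.w ((EtCore.topIsTerminal X).from (objOf j))).trans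
            (Category.id_comp j)))).trans hy, ?_⟩
        exact ((unit_eq_zero_iff j F _).1 (unit_gι j F a)).trans ((unit_eq_zero_iff j F _).1 (unit_gι j F b)).symm
      · obtain ⟨y, -, hy⟩ := hZ.surjOn hx
        exact ⟨_, (EtCore.topIsTerminal X).from (objW f), y, (congrArg (fun k : X' ⟶ X => k.base y)
          ((Category.comp_id _).symm.trans ((MorphismProperty.Over.w ((EtCore.topIsTerminal X).from (objW f))).trans
            (Category.id_comp f)))).trans hy, h1⟩
    · intro b
      obtain ⟨s, hs1, hs2⟩ := glue f j j' hU' hZ hκ F (gι j' ((EtShriek.restrAlong f).obj F) b)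
        ((unit_eq_zero_iff j' ((EtShriek.restrAlong f).obj F) _).1 (unit_gι j' _ b))
      obtain ⟨a, ha⟩ := exists_gι j F s ((unit_eq_zero_iff j F s).2 hs2)
      exact ⟨a, gι_injective j' _ ((hφ' F a).trans ((congrArg (res f F) ha).trans hs1))⟩
  haveI : ∀ F, IsIso (Φ F) := fun F => (ConcreteCategory.isIso_iff_bijective _).2 (hbij F)
  exact ⟨NatIso.ofComponents (fun F => asIso (Φ F)) (fun k => hnat k)⟩

include hU' hZ hκ in
/-- excision -/
theorem nonempty_HY_iso (F : EtCoh.Ab X) (r : ℕ) :
    Nonempty ((EtDual.HY j r).obj F ≅ (EtDual.HY j' r).obj ((EtCoh.pull f).obj F)) := by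
  obtain ⟨e⟩ := nonempty_gammaSupp_iso f j j' hU' hZ hκ
  let R := EtShriek.restrAlong f
  haveI hc : PreservesColimitsOfSize.{0, 0} R := (restrPushAdj f).leftAdjoint_preservesColimits
  haveI hl : PreservesLimitsOfSize.{0, 0} R := (EtShriek.extZeroAdj f).rightAdjoint_preservesLimits
  haveI : PreservesFiniteColimits R := @PreservesColimitsOfSize.preservesFiniteColimits.{0, 0} _ _ _ _ R hc
  haveI : PreservesFiniteLimits R := @PreservesLimitsOfSize.preservesFiniteLimits.{0, 0} _ _ _ _ R hl
  haveI : R.Additive := Functor.additive_of_preserves_binary_products _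
  haveI : PreservesFiniteLimits (EtDual.gammaSupp j') := by
    haveI := S6658.secSupp_preservesFiniteLimits j'
    haveI : PreservesLimitsOfSize.{0, 0} (EtCore.gsec X') := (EtCore.constAdj X').rightAdjoint_preservesLimits
    haveI : PreservesFiniteLimits (EtCore.gsec X') := PreservesLimitsOfSize.preservesFiniteLimits.{0, 0} _
    exact (comp_preservesFiniteLimits (EtDual.secSupp j') (EtCore.gsec X') :)
  haveI : (R ⋙ EtDual.gammaSupp j').Additive := inferInstance
  obtain ⟨c⟩ := CompDerived.nonempty_comp_iso_of_acyclic R (EtDual.gammaSupp j')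
    (fun J hJ k => by
      haveI : Injective (R.obj J) := injective_restr (Scheme.Etale.mk f) J
      exact (EtDual.gammaSupp j').isZero_rightDerived_obj_injective_succ k (R.obj J))
    r F (fun k => isZero_rightDerived_of_exact R k F)
  exact ⟨(GrothSS.rightDerivedCongr e r).app F ≪≫ c.symm ≪≫
    (EtDual.HY j' r).mapIso ((pullRestrIso f).app F).symm⟩

end Groth.Agent.EtExcision
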